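import Cfsg.Agent.Lib.Lead.ExtTransfer.Quad

/-! Transfer from a centralizer with an extraspecial-like normal two-subgroup. -/

set_option autoImplicit false

namespace Cfsg.Agent.Lead.ExtTransfer

open MulAction

/-- `H` has a normal subgroup `E` of class two with central element `z` and `E` fixes a single
coset of `H`. -/
structure Data {G : Type*} [Group G] (z : G) (H E : Subgroup G) : Prop where
  hzE : z ∈ E
  hEH : E ≤ H
  hzH : ∀ h ∈ H, z * h = h * z
  hz2 : z * z = 1
  hsq : ∀ e ∈ E, e * e = 1 ∨ e * e = z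
  hcomm : ∀ e ∈ E, ∀ f ∈ E, e * f * e⁻¹ * f⁻¹ = 1 ∨ e * f * e⁻¹ * f⁻¹ = z
  hnorm : ∀ h ∈ H, ∀ e ∈ E, h * e * h⁻¹ ∈ E
  hfix : ∀ g : G, (∀ e ∈ E, g⁻¹ * e * g ∈ H) → g ∈ H

/-- A transfer with values in a group of order two. -/
theorem transfer_eq {G : Type*} [Group G] [Finite G] {z : G} {H E : Subgroup G}
    (D : Data z H E) (ψ : G → ZMod 2) (hψ : ∀ a ∈ H, ∀ b ∈ H, ψ (a * b) = ψ a + ψ b)
    (hblock : ∀ g : G, g ∉ H → g⁻¹ * z * g ∈ H →
      8 ≤ (stabilizer ↥E (g : G ⧸ H)).index ∨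
      (4 ≤ (stabilizer ↥E (g : G ⧸ H)).index ∧ ψ (g⁻¹ * z * g) = 0) ∨
      ∀ e ∈ E, g⁻¹ * e * g ∈ H → ψ (g⁻¹ * e * g) = 0) :
    ∃ V : G → ZMod 2, (∀ a b : G, V (a * b) = V a + V b) ∧ ∀ x ∈ H, V x = ψ x := by
  classical
  haveI : Fact (Nat.Prime 2) := ⟨Nat.prime_two⟩
  haveI : Fintype (G ⧸ H) := Fintype.ofFinite _
  set r : G ⧸ H → G := fun ω => ω.out with hr
  have hrω : ∀ ω : G ⧸ H, ((r ω : G) : G ⧸ H) = ω := fun ω => Quotient.out_eq' ω
  set c : G → G ⧸ H → ZMod 2 := fun g ω => ψ ((r (g • ω))⁻¹ * g * r ω) with hc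
  have hmem : ∀ g ω, (r (g • ω))⁻¹ * g * r ω ∈ H := fun g ω => by
    rw [mul_assoc, ← QuotientGroup.eq, hrω]
    show g • ω = ((g * r ω : G) : G ⧸ H)
    conv_lhs => rw [← hrω ω]
    rfl
  have hcoc : ∀ a b ω, c (a * b) ω = c a (b • ω) + c b ω := fun a b ω => by
    simp only [hc]
    rw [← hψ _ (hmem a (b • ω)) _ (hmem b ω), mul_smul]
    congr 1
    group
  have ψ1 : ψ 1 = 0 := by
    have := hψ 1 (one_mem _) 1 (one_mem _)
    rw [mul_one] at this
    exact add_eq_left.1 this.symm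
  refine ⟨fun g => ∑ ω, c g ω, fun a b => ?_, fun x hx => ?_⟩
  · show ∑ ω, c (a * b) ω = ∑ ω, c a ω + ∑ ω, c b ω
    simp only [hcoc, Finset.sum_add_distrib]
    congr 1
    exact Fintype.sum_equiv (MulAction.toPerm b) _ _ fun _ => rfl
  show ∑ ω, c x ω = ψ x
  set sE : G ⧸ H → Subgroup E := fun ω => stabilizer ↥E ω with hsE
  have hstab : ∀ (ω : G ⧸ H) (e : E), e ∈ sE ω ↔ (r ω)⁻¹ * e * r ω ∈ H := by
    intro ω e
    have h1 : e • ω = ω ↔ ((e * r ω : G) : G ⧸ H) = ((r ω : G) : G ⧸ H) := by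
      conv_lhs => rw [← hrω ω]
      rfl
    rw [hsE]
    show e ∈ stabilizer ↥E ω ↔ _
    rw [mem_stabilizer_iff, h1, QuotientGroup.eq, ← inv_mem_iff]
    simp only [mul_inv_rev, inv_inv, mul_assoc]
  set ω0 : G ⧸ H := ((1 : G) : G ⧸ H) with hω0
  have hr0 : ∀ ω : G ⧸ H, r ω ∈ H → ω = ω0 := fun ω h => by
    rw [← hrω ω, hω0, QuotientGroup.eq]; simpa using h
  have hfix0 : ∀ h ∈ H, h • ω0 = ω0 := fun h hh => by
    show ((h * 1 : G) : G ⧸ H) = _
    rw [hω0, QuotientGroup.eq]; simpa using hh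
  have hψconj : ∀ a ∈ H, ∀ h ∈ H, ψ (a⁻¹ * h * a) = ψ h := fun a ha h hh => by
    have e : ψ a⁻¹ + ψ a = 0 := by rw [← hψ _ (inv_mem ha) _ ha, inv_mul_cancel, ψ1]
    rw [hψ _ (mul_mem (inv_mem ha) hh) _ ha, hψ _ (inv_mem ha) _ hh]
    linear_combination e
  -- the quadratic functions on each orbit
  let C1 : G ⧸ H → Subgroup G := fun ω =>
    { carrier := {u | u ∈ E ∧ ((r ω)⁻¹ * u * r ω ∈ H ∨ (r ω)⁻¹ * (z * u) * r ω ∈ H)}
      one_mem' := ⟨one_mem _, Or.inl (by simp)⟩
      mul_mem' := by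
        rintro u v ⟨hu, hu'⟩ ⟨hv, hv'⟩
        refine ⟨mul_mem hu hv, ?_⟩
        have hzu : z * u = u * z := D.hzH u (D.hEH hu)
        rcases hu' with hu' | hu' <;> rcases hv' with hv' | hv'
        · left; have := mul_mem hu' hv'; rwa [show (r ω)⁻¹ * u * r ω * ((r ω)⁻¹ * v * r ω) =
            (r ω)⁻¹ * (u * v) * r ω from by group] at this
        · right; have := mul_mem hu' hv'; rwa [show (r ω)⁻¹ * u * r ω * ((r ω)⁻¹ * (z * v) * r ω) =
            (r ω)⁻¹ * (u * z * v) * r ω from by group, ← hzu, mul_assoc z] at this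
        · right; have := mul_mem hu' hv'; rwa [show (r ω)⁻¹ * (z * u) * r ω * ((r ω)⁻¹ * v * r ω) =
            (r ω)⁻¹ * (z * (u * v)) * r ω from by group] at this
        · left; have := mul_mem hu' hv'; rwa [show (r ω)⁻¹ * (z * u) * r ω *
            ((r ω)⁻¹ * (z * v) * r ω) = (r ω)⁻¹ * (z * (u * z) * v) * r ω from by group, ← hzu,
            ← mul_assoc z, D.hz2, one_mul] at this
      inv_mem' := by
        rintro u ⟨hu, hu'⟩
        refine ⟨inv_mem hu, ?_⟩
        rcases hu' with hu' | hu'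
        · left; have := inv_mem hu'; rwa [show ((r ω)⁻¹ * u * r ω)⁻¹ =
            (r ω)⁻¹ * u⁻¹ * r ω from by group] at this
        · right
          have := inv_mem hu'
          rwa [show ((r ω)⁻¹ * (z * u) * r ω)⁻¹ = (r ω)⁻¹ * (u⁻¹ * z⁻¹) * r ω from by group,
            inv_eq_of_mul_eq_one_right D.hz2, ← D.hzH u⁻¹ (inv_mem (D.hEH hu))] at this }
  set l1 : G ⧸ H → G → ZMod 2 := fun ω u =>
    if (r ω)⁻¹ * u * r ω ∈ H then ψ ((r ω)⁻¹ * u * r ω)
    else ψ ((r ω)⁻¹ * (z * u) * r ω) with hl1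
  have hquad : ∀ ω : G ⧸ H, ∃ p : G → ZMod 2, ∃ β : G → G → ZMod 2,
      Quad z (C1 ω) E (l1 ω) p β ∧ ((∀ e ∈ C1 ω, l1 ω e = 0) → ∀ a, p a = 0) := by
    intro ω
    refine exists_quad z E (C1 ω) ⟨D.hzE, Or.inr (by rw [D.hz2]; simp)⟩ (fun u hu => hu.1)
      (fun e he => D.hzH e (D.hEH he)) D.hz2 D.hsq D.hcomm _ ?_
    rintro u ⟨hu, hu'⟩ v ⟨hv, hv'⟩
    have hzu : z * u = u * z := D.hzH u (D.hEH hu)
    simp only [hl1]
    have e1 : (r ω)⁻¹ * (u * v) * r ω = ((r ω)⁻¹ * u * r ω) * ((r ω)⁻¹ * v * r ω) := by group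
    have e2 : (r ω)⁻¹ * (z * (u * v)) * r ω =
        ((r ω)⁻¹ * (z * u) * r ω) * ((r ω)⁻¹ * v * r ω) := by group
    have e3 : (r ω)⁻¹ * (z * (u * v)) * r ω =
        ((r ω)⁻¹ * u * r ω) * ((r ω)⁻¹ * (z * v) * r ω) := by
      rw [← mul_assoc z u v, hzu]; group
    have e4 : (r ω)⁻¹ * (u * v) * r ω =
        ((r ω)⁻¹ * (z * u) * r ω) * ((r ω)⁻¹ * (z * v) * r ω) := by
      have : z * u * (z * v) = u * v := by
        rw [hzu, mul_assoc, ← mul_assoc z z v, D.hz2, one_mul]
      rw [← this]; group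
    by_cases h1 : (r ω)⁻¹ * u * r ω ∈ H <;> by_cases h2 : (r ω)⁻¹ * v * r ω ∈ H
    · rw [if_pos (e1 ▸ mul_mem h1 h2), if_pos h1, if_pos h2, e1, hψ _ h1 _ h2]
    · have h2' := hv'.resolve_left h2
      rw [if_neg (fun h => h2 (by rw [e1] at h; exact (Subgroup.mul_mem_cancel_left H h1).1 h)),
        if_pos h1, if_neg h2, e3, hψ _ h1 _ h2']
    · have h1' := hu'.resolve_left h1
      rw [if_neg (fun h => h1 (by rw [e1] at h; exact (Subgroup.mul_mem_cancel_right H h2).1 h)),
        if_neg h1, if_pos h2, e2, hψ _ h1' _ h2]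
    · have h1' := hu'.resolve_left h1
      have h2' := hv'.resolve_left h2
      rw [if_pos (e4 ▸ mul_mem h1' h2'), if_neg h1, if_neg h2, e4, hψ _ h1' _ h2']
  choose p β hQ hp0 using hquad
  let π : G ⧸ H → orbitRel.Quotient ↥E (G ⧸ H) := fun ω => Quotient.mk'' ω
  set B : G ⧸ H → G ⧸ H := fun ω => (π ω).out with hB
  have hBmem : ∀ ω, ω ∈ orbit ↥E (B ω) := fun ω => by
    have h : π (B ω) = π ω := Quotient.out_eq' _
    exact mem_orbit_symm.1 (orbitRel_apply.1 (Quotient.exact' h))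
  have hBorb : ∀ (ω : G ⧸ H) (e : E), B (e • ω) = B ω := fun ω e => by
    have h : π (e • ω) = π ω := Quotient.sound' (orbitRel_apply.2 (mem_orbit ω e))
    simp only [hB, h]
  have hBB : ∀ ω, B (B ω) = B ω := fun ω => by
    have h : π (B ω) = π ω := Quotient.out_eq' _
    show (π (B ω)).out = (π ω).out
    rw [h]
  choose eω heω using fun ω => mem_orbit_iff.1 (hBmem ω)
  set f : G ⧸ H → ZMod 2 := fun ω => p (B ω) (eω ω) + c (eω ω) (B ω) with hf
  have hF : ∀ (b : G ⧸ H), B b = b → ∀ e : E, f (e • b) = p b e + c e b := by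
    intro b hb e
    have h2 : eω (e • b) • b = e • b := by
      conv_lhs => arg 2; rw [← hb, ← hBorb b e]
      exact heω _
    set e' := eω (e • b) with he'
    have hmem' : e⁻¹ * e' ∈ sE b := by
      show (e⁻¹ * e') • b = b
      rw [mul_smul, h2, inv_smul_smul]
    set s := e⁻¹ * e' with hs
    have hee : (e' : G) = (e : G) * (s : G) := by simp [hs]
    have hsH : (r b)⁻¹ * (s : G) * r b ∈ H := (hstab b s).1 hmem'
    have hsG : (s : G) ∈ C1 b := ⟨s.2, Or.inl hsH⟩
    have e1 : c e' b = c e b + ψ ((r b)⁻¹ * (s : G) * r b) := by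
      rw [hee, hcoc]
      congr 1
      · congr 1
      · simp only [hc]
        have hfixb : (s : G) • b = b := hmem'
        rw [hfixb]
    show p (B (e • b)) e' + c e' (B (e • b)) = _
    rw [hBorb b e, hb, e1, hee, (hQ b).mul _ e.2 _ s.2, (hQ b).rightC _ e.2 _ hsG, (hQ b).ext _ hsG,
      show l1 b (s : G) = ψ ((r b)⁻¹ * (s : G) * r b) from if_pos hsH]
    linear_combination two_eq_zero (ψ ((r b)⁻¹ * (s : G) * r b))
  have pone : ∀ b, p b (1 : G) = 0 := fun b => by
    have h := (hQ b).ext 1 (one_mem _)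
    rw [h]; simp [hl1, ψ1]
  have hFb : ∀ b, B b = b → f b = 0 := fun b hb => by
    have h := hF b hb 1
    rw [one_smul, OneMemClass.coe_one, pone, zero_add] at h
    rw [h]
    simp only [hc, one_smul, mul_one, inv_mul_cancel, ψ1]
  set c' : G → G ⧸ H → ZMod 2 := fun g ω => c g ω + f (g • ω) + f ω with hc'
  have hcoc' : ∀ a b ω, c' (a * b) ω = c' a (b • ω) + c' b ω := fun a b ω => by
    simp only [hc', hcoc, mul_smul]
    linear_combination - two_eq_zero (f (b • ω))
  have hcb : ∀ b, B b = b → ∀ e : E, c' e b = p b e := fun b hb e => by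
    simp only [hc']
    have h : (e : G) • b = e • b := rfl
    rw [h, hF b hb e, hFb b hb]
    linear_combination two_eq_zero (c e b)
  have hsum : ∑ ω, c x ω = ∑ ω, c' x ω := by
    simp only [hc', Finset.sum_add_distrib]
    rw [show ∑ ω, f (x • ω) = ∑ ω, f ω from
      Fintype.sum_equiv (MulAction.toPerm x) _ _ fun _ => rfl, add_assoc, two_eq_zero, add_zero]
  rw [hsum]
  have hB0 : ∀ ω, B ω = ω0 → ω = ω0 := fun ω h => by
    rw [← heω ω, h]; exact hfix0 _ (D.hEH (eω ω).2)
  have hB00 : B ω0 = ω0 := by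
    obtain ⟨e, he⟩ := mem_orbit_iff.1 (mem_orbit_symm.1 (hBmem ω0))
    rw [← he]; exact hfix0 _ (D.hEH e.2)
  -- split the sum by orbits
  rw [← Finset.sum_fiberwise Finset.univ B (fun ω => c' x ω)]
  rw [Finset.sum_eq_single ω0]
  · have hfil : (Finset.univ.filter fun ω => B ω = ω0) = {ω0} := by
      ext ω
      simp only [Finset.mem_filter, Finset.mem_univ, true_and, Finset.mem_singleton]
      exact ⟨hB0 ω, fun h => h ▸ hB00⟩
    rw [hfil, Finset.sum_singleton]
    simp only [hc', hc, hfix0 x hx]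
    rw [add_assoc, two_eq_zero, add_zero]
    have hr0H : r ω0 ∈ H := by
      have h := hrω ω0
      rw [hω0, QuotientGroup.eq] at h
      simpa using h
    exact hψconj _ hr0H x hx
  · intro b _ hbne
    by_cases hBb : B b = b
    swap
    · rw [Finset.filter_eq_empty_iff.2 fun ω _ hω => hBb (by rw [← hω, hBB]), Finset.sum_empty]
    set b' := B (x • b) with hb'
    have hb'B : B b' = b' := hBB _
    set e1 := eω (x • b) with he1def
    have he1 : e1 • b' = x • b := heω _
    have hbH : r b ∉ H := fun h => hbne (hr0 b h)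
    have hb'H : r b' ∉ H := fun h => by
      have h1 : b' = ω0 := hr0 _ h
      apply hbne
      have h2 : x • b = ω0 := by rw [← he1, h1]; exact hfix0 _ (D.hEH e1.2)
      rw [← inv_smul_smul x b, h2, hfix0 _ (inv_mem hx)]
    -- the index of the stabiliser is the same for both
    let cx : E → E := fun e => ⟨x * e * x⁻¹, D.hnorm x hx e e.2⟩
    have hidx : (sE b').index = (sE b).index := by
      rw [hsE]
      show (stabilizer ↥E b').index = (stabilizer ↥E b).index
      rw [index_stabilizer, index_stabilizer]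
      symm
      refine Set.ncard_congr (fun ω _ => x • ω) ?_ (fun a b _ _ h => smul_left_cancel x h) ?_
      · rintro ω ⟨e, rfl⟩
        refine ⟨cx e * e1, ?_⟩
        show (cx e * e1) • b' = x • ((e : G) • b)
        rw [mul_smul, he1]
        show ((x * e * x⁻¹ : G)) • x • b = _
        rw [← mul_smul, ← mul_smul]; congr 1; group
      · rintro ω ⟨e, rfl⟩
        refine ⟨(e * e1⁻¹ : E) • x • b |> (x⁻¹ • ·), ?_, by simp [← he1, mul_smul]⟩
        refine ⟨⟨x⁻¹ * ((e * e1⁻¹ : E) : G) * x, by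
          have := D.hnorm x⁻¹ (inv_mem hx) _ (e * e1⁻¹).2
          simpa using this⟩, ?_⟩
        show (x⁻¹ * ((e * e1⁻¹ : E) : G) * x) • b = x⁻¹ • (((e * e1⁻¹ : E) : G) • x • b)
        rw [mul_smul, mul_smul]
    by_cases hzb : (r b)⁻¹ * z * r b ∈ H
    swap
    · -- `z` moves every point of the orbit: pair them off
      have hzfix : ∀ ω, z • ω = ω ↔ (r ω)⁻¹ * z * r ω ∈ H := fun ω => hstab ω ⟨z, D.hzE⟩
      have hzb0 : z • b ≠ b := fun h => hzb ((hzfix b).1 h)
      have hzmove : ∀ (b0 : G ⧸ H) (h : G), h ∈ H → z • b0 ≠ b0 → z • h • b0 ≠ h • b0 :=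
        fun b0 h hh hne he => hne (by
          rw [← mul_smul, D.hzH h hh, mul_smul] at he
          exact smul_left_cancel h he)
      have hzb' : z • b' ≠ b' := by
        intro h
        refine hzmove b x hx hzb0 ?_
        rw [← he1]
        show z • (e1 : G) • b' = (e1 : G) • b'
        rw [← mul_smul, D.hzH _ (D.hEH e1.2), mul_smul, h]
      have hcz : ∀ b0, B b0 = b0 → z • b0 ≠ b0 → ∀ e : E, c' z ((e : G) • b0) = 0 := by
        intro b0 hb0 hzb0 e
        have hn : ¬ (r b0)⁻¹ * z * r b0 ∈ H := fun h => hzb0 ((hzfix b0).2 h)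
        have h1 := hcoc' z e b0
        have h2 := hcb b0 hb0 (⟨z, D.hzE⟩ * e)
        rw [Subgroup.coe_mul, h1, hcb b0 hb0 e, (hQ b0).mul _ D.hzE _ e.2,
          (hQ b0).leftz _ e.2, (hQ b0).ext z ⟨D.hzE, Or.inr (by rw [D.hz2]; simp)⟩] at h2
        have h3 : l1 b0 z = 0 := by
          rw [hl1]; simp only [if_neg hn]; rw [D.hz2]; simp [ψ1]
        rw [h3] at h2
        linear_combination h2
      refine Finset.sum_involution (fun ω _ => z • ω) ?_ ?_ ?_ ?_
      · intro ω hω
        have hω' : B ω = b := (Finset.mem_filter.1 hω).2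
        have hωe : ω = (eω ω : G) • b := by
          conv_lhs => rw [← heω ω, hω']
          rfl
        have h1 := hcoc' x z ω
        have h2 := hcoc' z x ω
        rw [← D.hzH x hx] at h1
        rw [h1] at h2
        have e1' : c' z ω = 0 := by rw [hωe]; exact hcz b hBb hzb0 _
        have e2' : c' z (x • ω) = 0 := by
          rw [hωe, ← mul_smul, show x * (eω ω : G) = x * (eω ω : G) * x⁻¹ * x by group,
            mul_smul, ← he1]
          show c' z ((cx (eω ω) : G) • (e1 : G) • b') = 0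
          rw [← mul_smul]
          exact hcz b' hb'B hzb' (cx (eω ω) * e1)
        rw [e1', e2', add_zero, zero_add] at h2
        rw [h2, two_eq_zero]
      · intro ω hω _ h
        have hω' : B ω = b := (Finset.mem_filter.1 hω).2
        have hωe : ω = (eω ω : G) • b := by
          conv_lhs => rw [← heω ω, hω']
          rfl
        rw [hωe] at h
        exact hzmove b _ (D.hEH (eω ω).2) hzb0 h
      · intro ω hω
        refine Finset.mem_filter.2 ⟨Finset.mem_univ _, ?_⟩
        show B ((⟨z, D.hzE⟩ : E) • ω) = b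
        rw [hBorb]; exact (Finset.mem_filter.1 hω).2
      · intro ω _
        show z • z • ω = ω
        rw [← mul_smul, D.hz2, one_smul]
    -- the values at `z`
    set l := fun ω => ψ ((r ω)⁻¹ * z * r ω) with hl
    have hlz : l b' = l b := by
      have h1 : ((((e1 : G))⁻¹ * x * r b : G) : G ⧸ H) = b' := by
        have : b' = ((e1 : G))⁻¹ • x • b := by
          rw [← he1]; exact (inv_smul_smul e1 b').symm
        rw [this, ← mul_smul]
        conv_rhs => rw [← hrω b]
        rfl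
      set g1 := ((e1 : G))⁻¹ * x * r b with hg1
      have h2 : g1⁻¹ * r b' ∈ H := by rw [← QuotientGroup.eq, h1, hrω]
      have h3 : g1⁻¹ * z * g1 = (r b)⁻¹ * z * r b := by
        have hz' : z * ((e1 : G)⁻¹ * x) = ((e1 : G)⁻¹ * x) * z :=
          D.hzH _ (mul_mem (inv_mem (D.hEH e1.2)) hx)
        calc g1⁻¹ * z * g1 = (r b)⁻¹ * (((e1 : G)⁻¹ * x)⁻¹ * (z * ((e1 : G)⁻¹ * x))) * r b := by
              rw [hg1]; group
          _ = _ := by rw [hz']; group
      simp only [hl]
      rw [show (r b')⁻¹ * z * r b' = (g1⁻¹ * r b')⁻¹ * (g1⁻¹ * z * g1) * (g1⁻¹ * r b') by group,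
        hψconj _ h2 _ (h3 ▸ hzb), h3]
    have hzb' : (r b')⁻¹ * z * r b' ∈ H := by
      refine (hstab b' ⟨z, D.hzE⟩).1 ?_
      show z • b' = b'
      have h1 : z • b = b := (hstab b ⟨z, D.hzE⟩).2 hzb
      rw [show b' = e1⁻¹ • x • b from by rw [← he1, inv_smul_smul]]
      show z • ((e1⁻¹ : E) : G) • x • b = ((e1⁻¹ : E) : G) • x • b
      rw [← mul_smul, D.hzH _ (D.hEH (e1⁻¹).2), mul_smul, ← mul_smul z, D.hzH x hx, mul_smul, h1]
    have hblock' : ∀ ω, r ω ∉ H → (r ω)⁻¹ * z * r ω ∈ H →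
        8 ≤ (sE ω).index ∨ (4 ≤ (sE ω).index ∧ l ω = 0) ∨
        ∀ e ∈ (sE ω).map E.subtype, ψ ((r ω)⁻¹ * e * r ω) = 0 := by
      intro ω hω hωz
      rcases hblock (r ω) hω hωz with h | h | h
      · rw [hrω] at h; exact Or.inl h
      · rw [hrω] at h; exact Or.inr (Or.inl h)
      · refine Or.inr (Or.inr ?_)
        rintro - ⟨e, he, rfl⟩
        exact h e e.2 ((hstab ω e).1 he)
    have hl0 : ∀ ω, (r ω)⁻¹ * z * r ω ∈ H →
        (∀ e ∈ (sE ω).map E.subtype, ψ ((r ω)⁻¹ * e * r ω) = 0) → l ω = 0 :=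
      fun ω hzω h => h z ⟨⟨z, D.hzE⟩, (hstab ω ⟨z, D.hzE⟩).2 hzω, rfl⟩
    have hC1 : ∀ ω, (r ω)⁻¹ * z * r ω ∈ H →
        (∀ e ∈ (sE ω).map E.subtype, ψ ((r ω)⁻¹ * e * r ω) = 0) →
        ∀ e ∈ C1 ω, l1 ω e = 0 := by
      rintro ω hzω h e ⟨heE, he⟩
      have he' : (r ω)⁻¹ * e * r ω ∈ H := by
        rcases he with he | he
        · exact he
        · have := mul_mem hzω he
          rwa [show (r ω)⁻¹ * z * r ω * ((r ω)⁻¹ * (z * e) * r ω) =
            (r ω)⁻¹ * (z * z * e) * r ω from by group, D.hz2, one_mul] at this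
      simp only [hl1, if_pos he']
      exact h e ⟨⟨e, heE⟩, (hstab ω _).2 he', rfl⟩
    have hzl1 : ∀ ω, (r ω)⁻¹ * z * r ω ∈ H → l1 ω z = l ω := fun ω hzω => if_pos hzω
    have hne1 : (sE b).index ≠ 1 := fun h => hbH (D.hfix _ fun e he => (hstab b ⟨e, he⟩).1 (by
      rw [Subgroup.index_eq_one.1 h]; exact Subgroup.mem_top _))
    -- the quotient group acting on the orbit
    set S := sE b with hS
    haveI : S.Normal := ⟨fun n hn g => by
      have hz' : (⟨z, D.hzE⟩ : E) ∈ S := (hstab b _).2 hzb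
      rcases D.hcomm g g.2 n n.2 with h | h
      · have : g * n * g⁻¹ = n := Subtype.ext (by
          have := congrArg (· * (n : G)) h
          simpa using this)
        rw [this]; exact hn
      · have : g * n * g⁻¹ = ⟨z, D.hzE⟩ * n := Subtype.ext (by
          have := congrArg (· * (n : G)) h
          simpa using this)
        rw [this]; exact mul_mem hz' hn⟩
    haveI : Fintype (E ⧸ S) := Fintype.ofFinite _
    have hW : IsPGroup 2 (E ⧸ S) := by
      refine IsPGroup.to_quotient ?_ S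
      intro e
      refine ⟨2, Subtype.ext ?_⟩
      rw [SubgroupClass.coe_pow, show (2 : ℕ) ^ 2 = 2 * 2 by norm_num, pow_mul, pow_two (e : G)]
      rcases D.hsq e e.2 with h | h <;> rw [h]
      · simp
      · rw [pow_two, D.hz2]; rfl
    -- the values on the orbit
    have hval : ∀ e : E, c' x (e • b) = c' x b + p b e + p b' (cx e) + β b' (cx e) e1 := by
      intro e
      have h1 := hcoc' x e b
      have h2 := hcoc' (x * e * x⁻¹) x b
      rw [show x * e * x⁻¹ * x = x * e by group] at h2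
      have h3 : c' (x * e * x⁻¹) (x • b) = p b' (cx e) + β b' (cx e) e1 := by
        rw [← he1]
        have h4 := hcoc' (x * e * x⁻¹) e1 b'
        have h5 : (e1 : G) • b' = e1 • b' := rfl
        rw [h5] at h4
        have h6 := hcb b' hb'B (cx e * e1)
        rw [Subgroup.coe_mul, (hQ b').mul _ (cx e).2 _ e1.2] at h6
        have h7 := hcb b' hb'B e1
        rw [h4, h7] at h6
        linear_combination h6
      rw [h2, h3, hcb b hBb e] at h1
      have h8 : (e : G) • b = e • b := rfl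
      rw [h8] at h1
      linear_combination -h1 - two_eq_zero (p b e)
    set Df : E → ZMod 2 := fun e => p b e + p b' (cx e) + β b' (cx e) e1 with hDf
    set bf : E → E → ZMod 2 := fun a a' => β b a a' + β b' (cx a) (cx a') with hbf
    have cxm : ∀ a a', cx (a * a') = cx a * cx a' := fun a a' => Subtype.ext (by
      show x * ((a : G) * a') * x⁻¹ = x * a * x⁻¹ * (x * a' * x⁻¹)
      group)
    have hDmul : ∀ a a', Df (a * a') = Df a + Df a' + bf a a' := fun a a' => by
      simp only [hDf, hbf, cxm, Subgroup.coe_mul]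
      rw [(hQ b).mul _ a.2 _ a'.2, (hQ b').mul _ (cx a).2 _ (cx a').2,
        (hQ b').left _ (cx a).2 _ (cx a').2 _ e1.2]
      ring
    have hbr : ∀ a a' a'', bf a (a' * a'') = bf a a' + bf a a'' := fun a a' a'' => by
      simp only [hbf, cxm, Subgroup.coe_mul]
      rw [(hQ b).right _ a.2 _ a'.2 _ a''.2, (hQ b').right _ (cx a).2 _ (cx a').2 _ (cx a'').2]
      ring
    let emb : E ⧸ S → G ⧸ H := fun q => q.out • b
    have hout : ∀ a : E, ((a : E ⧸ S).out)⁻¹ * a ∈ S := fun a => by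
      rw [← QuotientGroup.eq]; exact Quotient.out_eq' _
    have hconst : ∀ a : E, Df ((a : E ⧸ S).out) = Df a := fun a => by
      set a0 := (a : E ⧸ S).out
      have h : a0 • b = a • b := by
        have h0 : (a0⁻¹ * a) • b = b := hout a
        conv_lhs => rw [← h0]
        rw [← mul_smul, mul_inv_cancel_left]
      have h1 := hval a0
      have h2 := hval a
      rw [h] at h1
      simp only [hDf]
      linear_combination h2 - h1
    set Dq : E ⧸ S → ZMod 2 := fun q => Df q.out with hDq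
    set bq : E ⧸ S → E ⧸ S → ZMod 2 := fun q q' => bf q.out q'.out with hbq
    have hDq' : ∀ q q', Dq (q * q') = Dq q + Dq q' + bq q q' := fun q q' => by
      simp only [hDq, hbq]
      rw [← hDmul, show q * q' = ((q.out * q'.out : E) : E ⧸ S) by
        rw [QuotientGroup.mk_mul, QuotientGroup.out_eq', QuotientGroup.out_eq'], hconst]
    have hbq' : ∀ q q' q'', bq q (q' * q'') = bq q q' + bq q q'' := fun q q' q'' => by
      have e : q' * q'' = ((q'.out * q''.out : E) : E ⧸ S) := by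
        rw [QuotientGroup.mk_mul, QuotientGroup.out_eq', QuotientGroup.out_eq']
      -- `bf` is determined by `Df`
      have h1 := hDmul q.out (((q' * q'' : E ⧸ S)).out)
      have h2 := hDmul q.out (q'.out * q''.out)
      have h3 : Df (q.out * (q' * q'').out) = Df (q.out * (q'.out * q''.out)) := by
        rw [← hconst (q.out * (q' * q'').out), ← hconst (q.out * (q'.out * q''.out))]
        rw [QuotientGroup.mk_mul, QuotientGroup.mk_mul _ _ (q'.out * q''.out), ← e,
          QuotientGroup.out_eq', QuotientGroup.out_eq']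
      have h4 : Df ((q' * q'').out) = Df (q'.out * q''.out) := by rw [e]; exact hconst _
      simp only [hbq]
      rw [← hbr]
      linear_combination h3 + h2 - h1 - h4
    have hcard : Nat.card (E ⧸ S) = S.index := rfl
    have hfib : ∑ ω ∈ Finset.univ.filter (fun ω => B ω = b), c' x ω =
        ∑ q : E ⧸ S, (c' x b + Dq q) := by
      symm
      refine Finset.sum_bij (fun q _ => emb q) ?_ ?_ ?_ ?_
      · intro q _
        exact Finset.mem_filter.2 ⟨Finset.mem_univ _, by rw [hBorb, hBb]⟩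
      · intro q _ q' _ h
        rw [← Quotient.out_eq' q, ← Quotient.out_eq' q']
        refine QuotientGroup.eq.2 ?_
        show ((q.out : E)⁻¹ * q'.out) • b = b
        rw [mul_smul, show (q'.out : E) • b = q.out • b from h.symm, inv_smul_smul]
      · intro ω hω
        have hω' : B ω = b := (Finset.mem_filter.1 hω).2
        refine ⟨(eω ω : E ⧸ S), Finset.mem_univ _, ?_⟩
        conv_rhs => rw [← heω ω, hω']
        show ((eω ω : E ⧸ S)).out • b = _
        have h0 : (((eω ω : E ⧸ S)).out⁻¹ * eω ω) • b = b := hout _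
        conv_lhs => rw [← h0]
        rw [← mul_smul, mul_inv_cancel_left]
      · intro q _
        rw [hval]
        simp only [hDq, hDf]
        ring
    rw [hfib, Finset.sum_add_distrib, Finset.sum_const, Finset.card_univ,
      ← Nat.card_eq_fintype_card, hcard, nsmul_eq_mul]
    have heven : ((S.index : ℕ) : ZMod 2) = 0 := by
      obtain ⟨n, hn⟩ := IsPGroup.iff_card.1 hW
      rw [hcard] at hn
      rw [ZMod.natCast_eq_zero_iff_even, hn]
      refine Nat.even_pow.2 ⟨even_two, fun h' => hne1 ?_⟩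
      rw [hn, h', pow_zero]
    rw [heven, zero_mul, zero_add]
    by_cases h8 : 8 ≤ S.index
    · exact sum_quad hW Dq bq hDq' hbq' (Or.inl (hcard ▸ h8))
    have hb2 := hblock' b hbH hzb
    have hb2' := hblock' b' hb'H hzb'
    rw [hidx] at hb2'
    have hl' : l b = 0 ∧ l b' = 0 := by
      have : l b = 0 := by
        rcases hb2 with h | h | h
        · exact absurd h h8
        · exact h.2
        · exact hl0 _ hzb h
      exact ⟨this, hlz.trans this⟩
    have hbz : ∀ q q', bq q q' = 0 := fun q q' => by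
      simp only [hbq, hbf]
      rw [(hQ b).lin ((hzl1 b hzb).trans hl'.1), (hQ b').lin ((hzl1 b' hzb').trans hl'.2), add_zero]
    by_cases h4 : 4 ≤ S.index
    · exact sum_quad hW Dq bq hDq' hbq' (Or.inr ⟨hcard ▸ h4, hbz⟩)
    have hp : ∀ a, p b a = 0 := hp0 b (hC1 b hzb (by
      rcases hb2 with h | h | h
      exacts [absurd h h8, absurd h.1 h4, h]))
    have hp' : ∀ a, p b' a = 0 := hp0 b' (hC1 b' hzb' (by
      rcases hb2' with h | h | h
      exacts [absurd h h8, absurd h.1 h4, h]))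
    refine Finset.sum_eq_zero fun q _ => ?_
    simp only [hDq, hDf, hp, hp', (hQ b').lin ((hzl1 b' hzb').trans hl'.2), add_zero]
  · intro h; exact absurd (Finset.mem_univ _) h

end Cfsg.Agent.Lead.ExtTransfer
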