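import Mathlib

/-! Quadratic extensions of additive functions inside a group of class two, and their sums. -/

set_option autoImplicit false

namespace Cfsg.Agent.Lead.ExtTransfer

variable {G : Type*} [Group G]

/-- `p` is quadratic on `M`, with polarisation `β`, extending `l` from `C`. -/
structure Quad (z : G) (C M : Subgroup G) (l p : G → ZMod 2) (β : G → G → ZMod 2) : Prop where
  ext : ∀ c ∈ C, p c = l c
  mul : ∀ a ∈ M, ∀ b ∈ M, p (a * b) = p a + p b + β a b
  left : ∀ a ∈ M, ∀ a' ∈ M, ∀ b ∈ M, β (a * a') b = β a b + β a' b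
  right : ∀ a ∈ M, ∀ b ∈ M, ∀ b' ∈ M, β a (b * b') = β a b + β a b'
  rightC : ∀ a ∈ M, ∀ c ∈ C, β a c = 0
  leftz : ∀ a ∈ M, β z a = 0
  lin : l z = 0 → ∀ a b, β a b = 0

theorem two_eq_zero (a : ZMod 2) : a + a = 0 := ZModModule.add_self a

theorem add_eq_zero_two {a b : ZMod 2} (h : a = b) : a + b = 0 := h ▸ two_eq_zero a

theorem exists_quad [Finite G] (z : G) (E C : Subgroup G) (hzC : z ∈ C) (hCE : C ≤ E)
    (hzc : ∀ e ∈ E, z * e = e * z) (hz2 : z * z = 1) (hsq : ∀ e ∈ E, e * e = 1 ∨ e * e = z)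
    (hcomm : ∀ e ∈ E, ∀ f ∈ E, e * f * e⁻¹ * f⁻¹ = 1 ∨ e * f * e⁻¹ * f⁻¹ = z)
    (l : G → ZMod 2) (hl : ∀ a ∈ C, ∀ b ∈ C, l (a * b) = l a + l b) :
    ∃ p : G → ZMod 2, ∃ β : G → G → ZMod 2, Quad z C E l p β ∧
      ((∀ c ∈ C, l c = 0) → ∀ a, p a = 0) := by
  classical
  by_cases hl0 : ∀ c ∈ C, l c = 0
  · exact ⟨fun _ => 0, fun _ _ => 0,
      ⟨fun c hc => (hl0 c hc).symm, fun _ _ _ _ => by simp, fun _ _ _ _ _ _ => by simp,
        fun _ _ _ _ _ _ => by simp, fun _ _ _ _ => rfl, fun _ _ => rfl, fun _ _ _ => rfl⟩,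
      fun _ _ => rfl⟩
  suffices ∀ k : ℕ, ∀ M : Subgroup G, C ≤ M → M ≤ E → Nat.card E - Nat.card M = k →
      (∃ p β, Quad z C M l p β) → ∃ p β, Quad z C E l p β by
    obtain ⟨p, β, h⟩ := this _ C le_rfl hCE rfl
      ⟨l, fun _ _ => 0, fun c _ => rfl, fun a ha b hb => by rw [hl a ha b hb, add_zero],
        fun _ _ _ _ _ _ => by simp, fun _ _ _ _ _ _ => by simp, fun _ _ _ _ => rfl,
        fun _ _ => rfl, fun _ _ _ => rfl⟩
    exact ⟨p, β, h, fun h' => absurd h' hl0⟩
  intro k
  induction k using Nat.strong_induction_on with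
  | h k ih =>
  rintro M hCM hME hk ⟨p, β, hQ⟩
  by_cases hEM : E ≤ M
  · obtain rfl : M = E := le_antisymm hME hEM
    exact ⟨p, β, hQ⟩
  obtain ⟨b, hbE, hbM⟩ := SetLike.not_le_iff_exists.1 hEM
  have hzM : z ∈ M := hCM hzC
  have hmem : ∀ w, w = 1 ∨ w = z → w ∈ M := by
    rintro w (rfl | rfl)
    exacts [one_mem _, hzM]
  -- conjugation by elements of `E` preserves `M`
  have hconj : ∀ e ∈ E, ∀ m ∈ M, e * m * e⁻¹ ∈ M := fun e he m hm => by
    have := mul_mem (hmem _ (hcomm e he m (hME hm))) hm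
    rwa [show e * m * e⁻¹ * m⁻¹ * m = e * m * e⁻¹ from by group] at this
  set k0 : G → G := fun m => m⁻¹ * b⁻¹ * m * b with hk0
  have hk0m : ∀ m ∈ E, k0 m = 1 ∨ k0 m = z := fun m hm => by
    have := hcomm m⁻¹ (inv_mem hm) b⁻¹ (inv_mem hbE)
    simp only [inv_inv] at this
    exact this
  have hs : b * b = 1 ∨ b * b = z := hsq b hbE
  let M' : Subgroup G :=
    { carrier := {u | u ∈ M ∨ b⁻¹ * u ∈ M}
      one_mem' := Or.inl (one_mem _)
      mul_mem' := by
        intro u v hu hv
        rcases hu with hu | hu <;> rcases hv with hv | hv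
        · exact Or.inl (mul_mem hu hv)
        · refine Or.inr ?_
          have := mul_mem (hconj b⁻¹ (inv_mem hbE) u hu) hv
          rwa [show b⁻¹ * u * b⁻¹⁻¹ * (b⁻¹ * v) = b⁻¹ * (u * v) from by group] at this
        · refine Or.inr ?_
          have := mul_mem hu hv
          rwa [show b⁻¹ * u * v = b⁻¹ * (u * v) from by group] at this
        · refine Or.inl ?_
          have := mul_mem (mul_mem (hmem _ hs) (hconj b⁻¹ (inv_mem hbE) _ hu)) hv
          rwa [show b * b * (b⁻¹ * (b⁻¹ * u) * b⁻¹⁻¹) * (b⁻¹ * v) = u * v from by group] at this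
      inv_mem' := by
        intro u hu
        rcases hu with hu | hu
        · exact Or.inl (inv_mem hu)
        · refine Or.inr ?_
          have := mul_mem (inv_mem (hmem _ hs)) (hconj b hbE _ (inv_mem hu))
          rwa [show (b * b)⁻¹ * (b * (b⁻¹ * u)⁻¹ * b⁻¹) = b⁻¹ * u⁻¹ from by group] at this }
  have hMM' : M < M' := by
    refine lt_of_le_of_ne (fun u hu => Or.inl hu) fun h => hbM ?_
    rw [h]; exact Or.inr (by simp)
  have hM'E : M' ≤ E := by
    rintro u (hu | hu)
    · exact hME hu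
    · have := mul_mem hbE (hME hu)
      rwa [mul_inv_cancel_left] at this
  set m : G → G := fun u => if u ∈ M then u else b⁻¹ * u with hm
  set ε : G → ZMod 2 := fun u => if u ∈ M then 0 else 1 with hε
  have hmM : ∀ u ∈ M', m u ∈ M := fun u hu => by
    by_cases h : u ∈ M
    · simp [hm, h]
    · simpa [hm, h] using hu.resolve_left h
  set p' : G → ZMod 2 := fun u => p (m u) with hp'
  set β' : G → G → ZMod 2 := fun u v =>
    if u ∈ M' ∧ v ∈ M' then ε u * ε v * p (b * b) + ε v * p (k0 (m u)) + β (m u) (m v) else 0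
      with hβ'
  have p1 : p 1 = 0 := by
    have := hl 1 (one_mem _) 1 (one_mem _)
    rw [mul_one] at this
    rw [hQ.ext 1 (one_mem _)]
    exact add_eq_left.1 this.symm
  have β1 : ∀ a ∈ M, β 1 a = 0 := fun a ha => by
    have := hQ.left 1 (one_mem _) 1 (one_mem _) a ha
    rw [mul_one] at this
    exact add_eq_left.1 this.symm
  have pz : ∀ w, (w = 1 ∨ w = z) → ∀ a ∈ M, p (w * a) = p w + p a ∧ β w a = 0 ∧ β a w = 0 := by
    intro w hw a ha
    have h2 : β w a = 0 := by
      rcases hw with rfl | rfl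
      exacts [β1 a ha, hQ.leftz a ha]
    refine ⟨by rw [hQ.mul w (hmem w hw) a ha, h2, add_zero], h2, hQ.rightC a ha w ?_⟩
    rcases hw with rfl | rfl
    exacts [one_mem _, hzC]
  -- the product rule for the coordinates
  have hprod : ∀ u ∈ M', ∀ v ∈ M', ε (u * v) = ε u + ε v ∧
      ∃ w₁ w₂ : G, (w₁ = 1 ∨ w₁ = z) ∧ (w₂ = 1 ∨ w₂ = z) ∧ m (u * v) = w₁ * (w₂ * (m u * m v)) ∧
        p w₁ = ε u * ε v * p (b * b) ∧ p w₂ = ε v * p (k0 (m u)) := by
    intro u hu v hv
    by_cases h1 : u ∈ M <;> by_cases h2 : v ∈ M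
    · refine ⟨by simp [hε, h1, h2, mul_mem h1 h2], 1, 1, Or.inl rfl, Or.inl rfl,
        by simp [hm, h1, h2, mul_mem h1 h2], by simp [hε, h1, p1], by simp [hε, h2, p1]⟩
    · have h3 : u * v ∉ M := fun h => h2 (by
        have := mul_mem (inv_mem h1) h; rwa [inv_mul_cancel_left] at this)
      refine ⟨by simp [hε, h1, h2, h3], 1, k0 u, Or.inl rfl, hk0m u (hME h1), ?_,
        by simp [hε, h1, p1], by simp [hε, hm, h1, h2]⟩
      simp only [hm, h1, h2, h3, if_true, if_false, one_mul]
      have hc : k0 u * u = u * k0 u := by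
        rcases hk0m u (hME h1) with h | h <;> rw [h]
        · simp
        · exact hzc u (hME h1)
      rw [← mul_assoc (k0 u), hc, hk0]
      group
    · have h3 : u * v ∉ M := fun h => h1 (by
        have := mul_mem h (inv_mem h2); rwa [mul_inv_cancel_right] at this)
      exact ⟨by simp [hε, h1, h2, h3], 1, 1, Or.inl rfl, Or.inl rfl,
        by simp [hm, h1, h2, h3, mul_assoc], by simp [hε, h2, p1], by simp [hε, h2, p1]⟩
    · have hu' : b⁻¹ * u ∈ M := hu.resolve_left h1
      have hv' : b⁻¹ * v ∈ M := hv.resolve_left h2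
      have hkk : k0 (b⁻¹ * u) = 1 ∨ k0 (b⁻¹ * u) = z := hk0m _ (hME hu')
      have hc : k0 (b⁻¹ * u) * (b⁻¹ * u) = (b⁻¹ * u) * k0 (b⁻¹ * u) := by
        rcases hkk with h | h <;> rw [h]
        · simp
        · exact hzc _ (hME hu')
      have e : u * v = b * b * (k0 (b⁻¹ * u) * (b⁻¹ * u * (b⁻¹ * v))) := by
        rw [← mul_assoc (k0 _), hc, hk0]
        group
      have h3 : u * v ∈ M := by
        rw [e]; exact mul_mem (hmem _ hs) (mul_mem (hmem _ hkk) (mul_mem hu' hv'))
      refine ⟨?_, b * b, k0 (b⁻¹ * u), hs, hkk, ?_, by simp [hε, h1, h2], by simp [hε, hm, h1, h2]⟩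
      · simp only [hε, h1, h2, h3, if_true, if_false]
        exact (two_eq_zero 1).symm
      · simp only [hm, h1, h2, h3, if_true, if_false]
        exact e
  have hpk : ∀ a ∈ M, ∀ a' ∈ M, p (k0 (a * a')) = p (k0 a) + p (k0 a') := by
    intro a ha a' ha'
    have hk := hk0m a (hME ha)
    have e : k0 (a * a') = k0 a * k0 a' := by
      have hc : k0 a * a'⁻¹ = a'⁻¹ * k0 a := by
        rcases hk with h | h <;> rw [h]
        · simp
        · exact hzc _ (inv_mem (hME ha'))
      calc k0 (a * a') = a'⁻¹ * k0 a * (b⁻¹ * a' * b) := by rw [hk0]; group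
        _ = k0 a * a'⁻¹ * (b⁻¹ * a' * b) := by rw [hc]
        _ = k0 a * k0 a' := by rw [hk0]; group
    rw [e]
    exact (pz _ hk _ (hmem _ (hk0m a' (hME ha')))).1
  have hkz : ∀ w, w = 1 ∨ w = z → p (k0 w) = 0 := by
    rintro w (rfl | h)
    · simp [hk0, p1]
    · subst w
      have : k0 z = 1 := by
        rw [hk0]; show z⁻¹ * b⁻¹ * z * b = 1
        rw [mul_assoc, hzc b hbE]; group
      rw [this, p1]
  refine ih (Nat.card E - Nat.card M') ?_ M' (hCM.trans hMM'.le) hM'E rfl ⟨p', β', ?_⟩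
  · have hlt : Nat.card M < Nat.card M' := by
      have hs' : (M : Set G) ⊂ (M' : Set G) := hMM'
      exact Set.ncard_lt_ncard hs' (Set.toFinite _)
    have hle : Nat.card M' ≤ Nat.card E := Subgroup.card_le_of_le hM'E
    omega
  constructor
  · intro c hc
    simp [hp', hm, hCM hc, hQ.ext c hc]
  · intro u hu v hv
    obtain ⟨-, w₁, w₂, g1, g2, e, e1, e2⟩ := hprod u hu v hv
    simp only [hp', hβ', hu, hv, and_self, if_true, e,
      (pz w₁ g1 _ (mul_mem (hmem _ g2) (mul_mem (hmM u hu) (hmM v hv)))).1,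
      (pz w₂ g2 _ (mul_mem (hmM u hu) (hmM v hv))).1, hQ.mul _ (hmM u hu) _ (hmM v hv), e1, e2]
    ring
  · intro u hu u' hu' v hv
    obtain ⟨hεm, w₁, w₂, g1, g2, e, -, -⟩ := hprod u hu u' hu'
    have huu : u * u' ∈ M' := mul_mem hu hu'
    have hb1 : β (m (u * u')) (m v) = β (m u) (m v) + β (m u') (m v) := by
      rw [e, hQ.left _ (hmem _ g1) _ (mul_mem (hmem _ g2) (mul_mem (hmM u hu) (hmM u' hu'))) _
        (hmM v hv), hQ.left _ (hmem _ g2) _ (mul_mem (hmM u hu) (hmM u' hu')) _ (hmM v hv),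
        (pz w₁ g1 _ (hmM v hv)).2.1, (pz w₂ g2 _ (hmM v hv)).2.1,
        hQ.left _ (hmM u hu) _ (hmM u' hu') _ (hmM v hv), zero_add, zero_add]
    have hb2 : p (k0 (m (u * u'))) = p (k0 (m u)) + p (k0 (m u')) := by
      rw [e, hpk _ (hmem _ g1) _ (mul_mem (hmem _ g2) (mul_mem (hmM u hu) (hmM u' hu'))),
        hpk _ (hmem _ g2) _ (mul_mem (hmM u hu) (hmM u' hu')),
        hpk _ (hmM u hu) _ (hmM u' hu'), hkz _ g1, hkz _ g2, zero_add, zero_add]
    simp only [hβ', hu, hu', huu, hv, and_self, if_true, hb1, hb2, hεm]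
    ring
  · intro u hu v hv v' hv'
    obtain ⟨hεm, w₁, w₂, g1, g2, e, -, -⟩ := hprod v hv v' hv'
    have hvv : v * v' ∈ M' := mul_mem hv hv'
    have hb1 : β (m u) (m (v * v')) = β (m u) (m v) + β (m u) (m v') := by
      rw [e, hQ.right _ (hmM u hu) _ (hmem _ g1) _
        (mul_mem (hmem _ g2) (mul_mem (hmM v hv) (hmM v' hv'))),
        hQ.right _ (hmM u hu) _ (hmem _ g2) _ (mul_mem (hmM v hv) (hmM v' hv')),
        (pz w₁ g1 _ (hmM u hu)).2.2, (pz w₂ g2 _ (hmM u hu)).2.2,
        hQ.right _ (hmM u hu) _ (hmM v hv) _ (hmM v' hv'), zero_add, zero_add]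
    simp only [hβ', hu, hv, hv', hvv, and_self, if_true, hb1, hεm]
    ring
  · intro u hu c hc
    have hc' : c ∈ M' := Or.inl (hCM hc)
    simp [hβ', hu, hc', hε, hCM hc, hm, hQ.rightC _ (by simpa [hm] using hmM u hu) c hc]
  · intro v hv
    have hz' : z ∈ M' := Or.inl hzM
    have h := hQ.leftz (m v) (hmM v hv)
    have hk : p (k0 z) = 0 := hkz z (Or.inr rfl)
    simp only [hm] at h
    simp [hβ', hv, hz', hε, hm, hzM, hk, h]
  · intro h0 u v
    have hw : ∀ w, w = 1 ∨ w = z → p w = 0 := by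
      rintro w (rfl | h)
      · exact p1
      · rw [h, hQ.ext z hzC, h0]
    simp only [hβ']
    split_ifs with h
    · rw [hw _ hs, hw _ (hk0m _ (hME (hmM u h.1))), hQ.lin h0]; ring
    · rfl

/-- Sums of quadratic functions over a two-group vanish. -/
theorem sum_quad {W : Type*} [Group W] [Fintype W] (hW : IsPGroup 2 W) (D : W → ZMod 2)
    (β : W → W → ZMod 2) (hD : ∀ a b, D (a * b) = D a + D b + β a b)
    (hβ : ∀ a b b', β a (b * b') = β a b + β a b')
    (h : 8 ≤ Nat.card W ∨ (4 ≤ Nat.card W ∧ ∀ a b, β a b = 0)) : ∑ a, D a = 0 := by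
  classical
  -- sums of additive functions
  have key : ∀ (W' : Subgroup W) (L : W → ZMod 2), 4 ≤ Nat.card W' →
      (∀ a b, L (a * b) = L a + L b) → ∑ a : W', L a = 0 := by
    intro W' L h4 hL
    let Lh : W' →* Multiplicative (ZMod 2) :=
      MonoidHom.mk' (fun a => Multiplicative.ofAdd (L a)) fun a b => by
        simp [hL, ofAdd_add]
    obtain ⟨d, hd⟩ := IsPGroup.iff_card.1 (hW.to_subgroup W')
    have heven : Even (Nat.card Lh.ker) := by
      have h1 := Subgroup.card_mul_index Lh.ker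
      have h2 : Lh.ker.index ≤ 2 := by
        rw [Subgroup.index_ker]
        exact (Nat.card_le_card_of_injective _ Subtype.val_injective).trans (by simp)
      obtain ⟨i, hi⟩ : ∃ i, Nat.card Lh.ker = 2 ^ i :=
        IsPGroup.iff_card.1 ((hW.to_subgroup W').to_subgroup _)
      have hi1 : 1 ≤ i := by
        rcases Nat.eq_zero_or_pos i with rfl | h'
        · rw [pow_zero] at hi
          rw [hi, one_mul] at h1
          omega
        · exact h'
      rw [hi]
      exact (Nat.even_pow.2 ⟨even_two, by omega⟩)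
    have hcard : Even (Finset.univ.filter fun a : W' => L a = 1).card := by
      have e1 : (Finset.univ.filter fun a : W' => L a = 0).card = Nat.card Lh.ker := by
        rw [Nat.card_eq_fintype_card, Fintype.card_subtype]
        congr 1
        ext a
        simp [Lh, MonoidHom.mem_ker]
      have e2 := Finset.card_filter_add_card_filter_not (s := (Finset.univ : Finset W'))
        (fun a : W' => L a = 0)
      rw [e1, Finset.card_univ, ← Nat.card_eq_fintype_card] at e2
      have e3 : (Finset.univ.filter fun a : W' => ¬ L a = 0) =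
          Finset.univ.filter fun a : W' => L a = 1 :=
        Finset.filter_congr fun a _ => by
          generalize L a = t
          revert t; decide
      rw [e3] at e2
      have hev : Even (Nat.card W') := by
        rw [hd]; refine Nat.even_pow.2 ⟨even_two, fun h' => ?_⟩
        rw [h', pow_zero] at hd; omega
      rw [← e2, Nat.even_add] at hev
      exact hev.1 heven
    have : ∑ a : W', L a = ((Finset.univ.filter fun a : W' => L a = 1).card : ZMod 2) := by
      rw [← Finset.sum_boole]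
      refine Finset.sum_congr rfl fun a _ => ?_
      generalize L a = t
      revert t; decide
    rw [this]
    exact (ZMod.natCast_eq_zero_iff_even).2 hcard
  haveI : Fact (Nat.Prime 2) := ⟨Nat.prime_two⟩
  obtain ⟨d, hd⟩ := IsPGroup.iff_card.1 hW
  have hd2 : 2 ≤ d := by
    have : 4 ≤ 2 ^ d := by rw [← hd]; rcases h with h | h <;> omega
    by_contra hc
    interval_cases d <;> omega
  by_cases hzero : ∀ a b, β a b = 0
  · have := key ⊤ D (by rw [Subgroup.card_top]; rcases h with h | h <;> omega)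
      fun a b => by rw [hD, hzero, add_zero]
    rw [← this]
    exact (Fintype.sum_equiv Subgroup.topEquiv.toEquiv _ _ fun _ => rfl).symm
  have h8 : 8 ≤ Nat.card W := h.resolve_right fun h' => hzero h'.2
  obtain ⟨K, hK⟩ := Sylow.exists_subgroup_card_pow_prime 2
    (show 2 ^ (d - 1) ∣ Nat.card W by rw [hd]; exact pow_dvd_pow 2 (Nat.sub_le d 1))
  have hKi : K.index = 2 := by
    have h1 := Subgroup.card_mul_index K
    rw [hK, hd, show d = d - 1 + 1 by omega, pow_succ] at h1
    simpa using h1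
  obtain ⟨w, hw⟩ := Subgroup.index_eq_two_iff.1 hKi
  have hwK : w ∉ K := by
    rcases hw 1 with ⟨h1, h2⟩ | ⟨h1, h2⟩
    · exact absurd (one_mem K) h2
    · simpa using h2
  have hsplit : ∑ a, D a = ∑ a : K, D a + ∑ a : K, D (w * a) := by
    rw [← Finset.sum_filter_add_sum_filter_not Finset.univ (fun a => a ∈ K)]
    congr 1
    · exact (Finset.sum_subtype _ (by simp) D)
    · symm
      refine Finset.sum_bij (fun (a : K) _ => w * a) ?_ ?_ ?_ (fun a _ => rfl)
      · intro a _
        refine Finset.mem_filter.2 ⟨Finset.mem_univ _, fun h' => hwK ?_⟩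
        simpa using mul_mem h' (inv_mem a.2)
      · intro a _ a' _ h'
        exact Subtype.ext (mul_left_cancel h')
      · intro c hc
        have hc' : c ∉ K := (Finset.mem_filter.1 hc).2
        refine ⟨⟨w⁻¹ * c, ?_⟩, Finset.mem_univ _, by simp⟩
        rw [Subgroup.mul_mem_iff_of_index_two hKi, inv_mem_iff]
        exact iff_of_false hwK hc'
  have hKc : 4 ≤ Nat.card K := by
    rw [hK]
    have : 8 ≤ 2 ^ d := hd ▸ h8
    rw [show d = d - 1 + 1 by omega, pow_succ] at this
    omega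
  have hKev : ((Fintype.card K : ℕ) : ZMod 2) = 0 := by
    rw [ZMod.natCast_eq_zero_iff_even, ← Nat.card_eq_fintype_card, hK]
    exact Nat.even_pow.2 ⟨even_two, by omega⟩
  rw [hsplit, ← Finset.sum_add_distrib]
  have he : ∀ a : K, D a + D (w * a) = D w + β w a := fun a => by
    rw [hD w a]
    have := two_eq_zero (D (a : W))
    linear_combination this
  simp only [he]
  rw [Finset.sum_add_distrib, key K (fun a => β w a) hKc (fun a b => hβ w a b), Finset.sum_const,
    Finset.card_univ, nsmul_eq_mul, hKev, zero_mul, add_zero]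

end Cfsg.Agent.Lead.ExtTransfer
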