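import Cfsg.Agent.Lib.Lead.ExtTransfer.Main
import Cfsg.Agent.Lib.Spor.LargeExtraspecial
import Cfsg.Agent.Lib.Solv.Extraspecial
import Cfsg.Prelude.Def_Transfer

/-! The data attached to an extraspecial `O₂(C(z))`. -/

set_option autoImplicit false

namespace Cfsg.Agent.Lead.ExtTransfer

open MulAction
open scoped commutatorElement

variable {G : Type*} [Group G] [Finite G]

/-- The standing hypotheses. -/
structure Setting (z : G) (E : Subgroup G) : Prop where
  hz : orderOf z = 2
  hE : E = (Cfsg.pCore 2 ↥(Subgroup.centralizer ({z} : Set G))).map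
    (Subgroup.centralizer ({z} : Set G)).subtype
  hext : Cfsg.IsExtraspecial 2 ↥E
  hcent : Subgroup.centralizer (E : Set G) ≤ E

variable {z : G} {E : Subgroup G}

theorem Setting.le (S : Setting z E) : E ≤ Subgroup.centralizer ({z} : Set G) := by
  rw [S.hE]; exact Subgroup.map_subtype_le _

theorem Setting.normal (S : Setting z E) :
    ∀ h ∈ Subgroup.centralizer ({z} : Set G), ∀ e ∈ E, h * e * h⁻¹ ∈ E := by
  intro h hh e he
  rw [S.hE] at he ⊢
  obtain ⟨e', he', rfl⟩ := he
  have hN : (Cfsg.pCore 2 ↥(Subgroup.centralizer ({z} : Set G))).Normal :=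
    Cfsg.Agent.Solv.pCore_normal 2
  exact ⟨⟨h, hh⟩ * e' * ⟨h, hh⟩⁻¹, hN.conj_mem e' he' ⟨h, hh⟩, rfl⟩

theorem Setting.z_mem (S : Setting z E) : z ∈ E := by
  set H := Subgroup.centralizer ({z} : Set G) with hH
  have hzH : z ∈ H := Subgroup.mem_centralizer_singleton_iff.2 rfl
  set z' : H := ⟨z, hzH⟩ with hz'
  have hc : ∀ h : H, h * z' * h⁻¹ = z' := fun h => by
    have := Subgroup.mem_centralizer_singleton_iff.1 h.2
    apply Subtype.ext
    show (h : G) * z * (h : G)⁻¹ = z
    rw [this, mul_inv_cancel_right]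
  have hN : (Subgroup.zpowers z').Normal := ⟨fun n hn g => by
    obtain ⟨k, rfl⟩ := hn
    refine ⟨k, ?_⟩
    show z' ^ k = g * z' ^ k * g⁻¹
    rw [← conj_zpow, hc]⟩
  have hP : IsPGroup 2 (Subgroup.zpowers z') := by
    refine IsPGroup.of_card (n := 1) ?_
    rw [Nat.card_zpowers, pow_one, ← Subgroup.orderOf_coe]
    exact S.hz
  rw [S.hE]
  exact ⟨z', le_sSup (show _ ∈ {N : Subgroup H | N.Normal ∧ IsPGroup 2 N} from ⟨hN, hP⟩)
    (Subgroup.mem_zpowers z'), rfl⟩

theorem Setting.center (S : Setting z E) (e : E) (he : e ∈ Subgroup.center E) :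
    (e : G) = 1 ∨ (e : G) = z := by
  have hzc : (⟨z, S.z_mem⟩ : E) ∈ Subgroup.center E := Subgroup.mem_center_iff.2 fun f =>
    Subtype.ext (Subgroup.mem_centralizer_singleton_iff.1 (S.le f.2))
  obtain ⟨w, -, huniq⟩ := (Nat.card_eq_two_iff' (1 : Subgroup.center E)).1 S.hext.2
  by_cases h1 : (⟨e, he⟩ : Subgroup.center E) = 1
  · exact Or.inl (congrArg (fun t : Subgroup.center E => ((t : E) : G)) h1)
  · refine Or.inr ?_
    have hz1 : (⟨⟨z, S.z_mem⟩, hzc⟩ : Subgroup.center E) ≠ 1 := fun h => by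
      have h' : z = 1 := congrArg (fun t : Subgroup.center E => ((t : E) : G)) h
      have := S.hz
      rw [h', orderOf_one] at this
      exact absurd this (by norm_num)
    have := (huniq _ h1).trans (huniq _ hz1).symm
    exact congrArg (fun t : Subgroup.center E => ((t : E) : G)) this

theorem Setting.data (S : Setting z E) :
    Data z (Subgroup.centralizer ({z} : Set G)) E where
  hzE := S.z_mem
  hEH := S.le
  hzH h hh := (Subgroup.mem_centralizer_singleton_iff.1 hh).symm
  hz2 := by rw [← pow_two, ← S.hz, pow_orderOf_eq_one]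
  hsq e he := by
    haveI : Fact (Nat.Prime 2) := ⟨Nat.prime_two⟩
    have h := Cfsg.Agent.Solv.extraspecial_pow_mem_center S.hext (⟨e, he⟩ : E)
    rw [pow_two] at h
    exact S.center _ h
  hcomm e he f hf := by
    have h : ⁅(⟨e, he⟩ : E), (⟨f, hf⟩ : E)⁆ ∈ Subgroup.center E :=
      S.hext.1.2.2.le (Subgroup.commutator_mem_commutator (Subgroup.mem_top _) (Subgroup.mem_top _))
    exact S.center _ h
  hnorm := S.normal
  hfix g hg := by
    have h1 : g * z * g⁻¹ ∈ E := S.hcent (Subgroup.mem_centralizer_iff.2 fun e he => by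
      have := Subgroup.mem_centralizer_singleton_iff.1 (hg e he)
      calc e * (g * z * g⁻¹) = g * ((g⁻¹ * e * g) * z) * g⁻¹ := by group
        _ = g * (z * (g⁻¹ * e * g)) * g⁻¹ := by rw [this]
        _ = g * z * g⁻¹ * e := by group)
    have h2 : (⟨g * z * g⁻¹, h1⟩ : E) ∈ Subgroup.center E := Subgroup.mem_center_iff.2 fun f => by
      apply Subtype.ext
      have := Subgroup.mem_centralizer_singleton_iff.1 (hg f f.2)
      show (f : G) * (g * z * g⁻¹) = g * z * g⁻¹ * f
      calc (f : G) * (g * z * g⁻¹) = g * ((g⁻¹ * f * g) * z) * g⁻¹ := by group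
        _ = g * (z * (g⁻¹ * f * g)) * g⁻¹ := by rw [this]
        _ = g * z * g⁻¹ * f := by group
    rcases S.center _ h2 with h | h
    · exfalso
      have h' : z = 1 := by
        have := congrArg (fun t => g⁻¹ * t * g) (show g * z * g⁻¹ = 1 from h)
        simpa [mul_assoc] using this
      have := S.hz
      rw [h', orderOf_one] at this
      exact absurd this (by norm_num)
    · rw [Subgroup.mem_centralizer_singleton_iff]
      have h' : g * z * g⁻¹ = z := h
      calc g * z = g * z * g⁻¹ * g := by group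
        _ = z * g := by rw [h']

theorem mem_stab_iff (H : Subgroup G) (g : G) (e : E) :
    e ∈ stabilizer ↥E (g : G ⧸ H) ↔ g⁻¹ * e * g ∈ H := by
  rw [mem_stabilizer_iff]
  show ((e * g : G) : G ⧸ H) = (g : G ⧸ H) ↔ _
  rw [QuotientGroup.eq, ← inv_mem_iff]
  simp only [mul_inv_rev, inv_inv, mul_assoc]

/-- Two-power index. -/
theorem Setting.index_pow (S : Setting z E) (C : Subgroup E) : ∃ k, C.index = 2 ^ k := by
  haveI : Fact (Nat.Prime 2) := ⟨Nat.prime_two⟩
  obtain ⟨k, hk⟩ := IsPGroup.iff_card.1 S.hext.1.1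
  obtain ⟨i, -, hi⟩ := (Nat.dvd_prime_pow Nat.prime_two).1 (hk ▸ C.index_dvd_card)
  exact ⟨i, hi⟩

/-- An abelian subgroup of small index is small. -/
theorem Setting.abelian_bound (S : Setting z E) (C : Subgroup E)
    (hab : ∀ a ∈ C, ∀ b ∈ C, a * b = b * a) (i : ℕ) (hi : C.index = i) :
    Nat.card E ≤ 2 ^ i * i := by
  classical
  haveI : Fintype (E ⧸ C) := Fintype.ofFinite _
  set q0 : E ⧸ C := ((1 : E) : E ⧸ C)
  let F2 : C → ({q : E ⧸ C // q ≠ q0} → {t : G // t = 1 ∨ t = z}) :=
    fun c q => ⟨(q.1.out : G) * (c : E) * (q.1.out : G)⁻¹ * ((c : E) : G)⁻¹,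
        S.data.hcomm _ q.1.out.2 _ (c : E).2⟩
  haveI : Nonempty C := ⟨1⟩
  let rep : ({q : E ⧸ C // q ≠ q0} → {t : G // t = 1 ∨ t = z}) → C := Function.invFun F2
  let F : C → Bool × ({q : E ⧸ C // q ≠ q0} → {t : G // t = 1 ∨ t = z}) :=
    fun c => (decide (c = rep (F2 c)), F2 c)
  have hdiff : ∀ a b : C, F2 a = F2 b → ((a : E) : G) = (b : E) ∨ ((a : E) : G) = z * (b : E) := by
    intro a b h
    have h2 : ∀ y : E, y * (a : E) * y⁻¹ * (a : E)⁻¹ = y * b * y⁻¹ * (b : E)⁻¹ := by
      have hd : ∀ (x : E) (c : C), x ∈ C → x * (c : E) * x⁻¹ * (c : E)⁻¹ = 1 := fun x c hx => by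
        rw [hab x hx c c.2]; group
      intro y
      set q : E ⧸ C := (y : E ⧸ C)
      have hy : q.out⁻¹ * y ∈ C := by rw [← QuotientGroup.eq]; exact QuotientGroup.out_eq' _
      set s := q.out⁻¹ * y with hs
      have hys : y = q.out * s := by simp [hs]
      have key : ∀ c : C, y * (c : E) * y⁻¹ * (c : E)⁻¹ =
          q.out * (c : E) * q.out⁻¹ * (c : E)⁻¹ := fun c => by
        rw [hys]
        calc q.out * s * (c : E) * (q.out * s)⁻¹ * (c : E)⁻¹
            = q.out * (s * (c : E) * s⁻¹ * (c : E)⁻¹) * (c : E) * q.out⁻¹ * (c : E)⁻¹ := by group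
          _ = _ := by rw [hd s c hy]; group
      rw [key a, key b]
      by_cases hq : q = q0
      · have hqC : q.out ∈ C := by
          have := QuotientGroup.out_eq' q
          conv_rhs at this => rw [hq]
          rw [QuotientGroup.eq] at this
          simpa using this
        rw [hd _ a hqC, hd _ b hqC]
      · have hv := congrArg Subtype.val (congrFun h ⟨q, hq⟩)
        exact Subtype.ext hv
    have h3 : (a : E) * (b : E)⁻¹ ∈ Subgroup.center E := Subgroup.mem_center_iff.2 fun y => by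
      set k := y * (b : E) * y⁻¹ * (b : E)⁻¹ with hk
      have hcm : k ∈ Subgroup.center E := S.hext.1.2.2.le
        (Subgroup.commutator_mem_commutator (Subgroup.mem_top y) (Subgroup.mem_top _))
      have hc := Subgroup.mem_center_iff.1 hcm
      have e1 : y * (a : E) = k * a * y := by
        rw [hk, ← h2 y]; group
      have e2 : y * (b : E)⁻¹ = k⁻¹ * (b : E)⁻¹ * y := by
        have hc' : (b : E)⁻¹ * k⁻¹ = k⁻¹ * (b : E)⁻¹ :=
          Subgroup.mem_center_iff.1 (inv_mem hcm) _
        rw [← hc', hk]; group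
      calc y * ((a : E) * (b : E)⁻¹) = y * a * (b : E)⁻¹ := by group
        _ = k * a * (y * (b : E)⁻¹) := by rw [e1]; group
        _ = a * k * (k⁻¹ * (b : E)⁻¹ * y) := by rw [e2, hc (a : E)]
        _ = (a : E) * (b : E)⁻¹ * y := by group
    rcases S.center _ h3 with h4 | h4
    · left
      simpa [mul_inv_eq_one] using h4
    · right
      have h5 : ((a : E) : G) * ((b : E) : G)⁻¹ = z := h4
      rw [← h5]; group
  have hinj : Function.Injective F := by
    intro a b h
    obtain ⟨h1, h2⟩ := Prod.ext_iff.1 h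
    have hr : F2 (rep (F2 a)) = F2 a := Function.invFun_eq ⟨a, rfl⟩
    have h2' : F2 a = F2 b := h2
    have h1' : decide (a = rep (F2 a)) = decide (b = rep (F2 b)) := h1
    rw [← h2', decide_eq_decide] at h1'
    by_cases ha : a = rep (F2 a)
    · exact ha.trans (h1'.1 ha).symm
    · have hb : b ≠ rep (F2 a) := fun hb => ha (h1'.2 hb)
      have n1 : ∀ c : C, c ≠ rep (F2 a) → F2 c = F2 a →
          ((c : E) : G) = z * ((rep (F2 a) : C) : E) := fun c hc hcF =>
        (hdiff c _ (hcF.trans hr.symm)).resolve_left fun hh => hc (Subtype.ext (Subtype.ext hh))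
      exact Subtype.ext (Subtype.ext ((n1 a ha rfl).trans (n1 b hb h2'.symm).symm))
  have h2 : Nat.card {t : G // t = 1 ∨ t = z} ≤ 2 := by
    refine (Nat.card_le_card_of_injective (fun t => decide (t.1 = 1)) ?_).trans (by simp)
    rintro ⟨t, ht⟩ ⟨t', ht'⟩ h
    simp only [decide_eq_decide] at h
    apply Subtype.ext
    rcases ht with ht | ht <;> rcases ht' with ht' | ht' <;> simp_all
  have hcard := Nat.card_le_card_of_injective F hinj
  rw [Nat.card_prod, Nat.card_fun] at hcard
  have hq : Nat.card {q : E ⧸ C // q ≠ q0} + 1 = i := by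
    rw [← hi, Subgroup.index, Nat.card_eq_fintype_card, Nat.card_eq_fintype_card,
      Fintype.card_subtype_compl, Fintype.card_subtype_eq]
    have := Fintype.card_pos (α := E ⧸ C)
    omega
  rw [← Subgroup.card_mul_index C, hi]
  refine Nat.mul_le_mul_right _ (hcard.trans ?_)
  rw [← hq, pow_succ, mul_comm]
  exact Nat.mul_le_mul (Nat.pow_le_pow_left h2 _) (by simp)

/-- A hom to a group of order two kills groups without two-quotients. -/
theorem eq_zero_of_residual (hres : Cfsg.pResidual 2 G = ⊤) (V : G → ZMod 2)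
    (hV : ∀ a b, V (a * b) = V a + V b) (g : G) : V g = 0 := by
  let Vh : G →* Multiplicative (ZMod 2) :=
    MonoidHom.mk' (fun a => Multiplicative.ofAdd (V a)) fun a b => by simp [hV, ofAdd_add]
  have hle : Cfsg.pResidual 2 G ≤ Vh.ker := by
    rw [Cfsg.pResidual, Subgroup.closure_le]
    intro x hx
    show Vh x = 1
    rw [← orderOf_eq_one_iff]
    have h1 : orderOf (Vh x) ∣ orderOf x := orderOf_map_dvd Vh x
    have h2 : orderOf (Vh x) ∣ 2 := by
      have := orderOf_dvd_natCard (Vh x)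
      simpa using this
    exact Nat.eq_one_of_dvd_coprimes hx h1 h2
  have := hle (hres ▸ Subgroup.mem_top g)
  simpa [Vh, MonoidHom.mem_ker] using this

end Cfsg.Agent.Lead.ExtTransfer
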